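/-
Package CR of the symmetric S3-amalgam lemma (critical pair basics).
-/
import Cfsg.Agent.Lib.Helper71.Sym.Words

set_option autoImplicit false

namespace Cfsg.Agent.Lib.Helper69.Sym

open Cfsg.Agent.Lib.Helper71.Sym

variable {G : Type*} [Group G]

/-- If `B` has index two in `C` and `A ≤ C`, then `A ⊓ B` has index at most two in `A`. -/
theorem card_le_two_mul_inf [Finite G] {A B C : Subgroup G} (hA : A ≤ C) (hB : B ≤ C)
    (hC : Nat.card ↥C = 2 * Nat.card ↥B) : Nat.card ↥A ≤ 2 * Nat.card ↥(A ⊓ B) := by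
  have hBpos : 0 < Nat.card ↥B := Nat.card_pos
  have h1 : B.relIndex C = 2 := by
    have h := Subgroup.relIndex_mul_relIndex (⊥ : Subgroup G) B C bot_le hB
    rw [Subgroup.relIndex_bot_left, Subgroup.relIndex_bot_left, hC] at h
    have : Nat.card ↥B * B.relIndex C = Nat.card ↥B * 2 := by rw [h]; ring
    exact Nat.eq_of_mul_eq_mul_left hBpos this
  have h2 : (A ⊓ B).relIndex A ≤ 2 := by
    rw [Subgroup.inf_relIndex_left, ← h1]
    exact Subgroup.relIndex_le_of_le_right hA (by rw [h1]; norm_num)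
  have h3 := Subgroup.relIndex_mul_relIndex (⊥ : Subgroup G) (A ⊓ B) A bot_le inf_le_left
  rw [Subgroup.relIndex_bot_left, Subgroup.relIndex_bot_left] at h3
  calc Nat.card ↥A = Nat.card ↥(A ⊓ B) * (A ⊓ B).relIndex A := h3.symm
    _ ≤ Nat.card ↥(A ⊓ B) * 2 := Nat.mul_le_mul_left _ h2
    _ = 2 * Nat.card ↥(A ⊓ B) := by ring

/-- `Z ≤ cj (g * x) Q` for a word `g` of the critical length. -/
theorem crit_Z_le_gxQ [Finite G] {H T Q : Subgroup G} {x : G} (hA : Amal H T Q x)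
    (hZF : ZF H T Q) {k : ℕ} (hk : IsCritIdx H T Q x k) {g : G} (hg : g ∈ Wd H x k) :
    Zs H T ≤ cj (g * x) Q := by
  cases k with
  | zero =>
    rw [wd_zero] at hg; subst hg
    rw [hA.cjQ hA.x2H]
    exact hZF.le_Q
  | succ j =>
    obtain ⟨u, hu, h, hh, rfl⟩ := wd_succ.1 hg
    have e : u * h * x * x = u * (h * (x * x)) := by simp [mul_assoc]
    rw [e, hA.cj_mul_Q u (H.mul_mem hh hA.x2H)]
    exact hk.2 j (Nat.lt_succ_self j) u hu

/-- `cj g Z ≤ cj x Q` for a word `g` of the critical length. -/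
theorem crit_gZ_le_xQ [Finite G] {H T Q : Subgroup G} {x : G} (hA : Amal H T Q x)
    (hZF : ZF H T Q) {k : ℕ} (hk : IsCritIdx H T Q x k) {g : G} (hg : g ∈ Wd H x k) :
    cj g (Zs H T) ≤ cj x Q := by
  cases k with
  | zero =>
    rw [wd_zero] at hg; subst hg
    exact cj_mono hZF.le_Q g
  | succ j =>
    obtain ⟨h, hh, u, hu, rfl⟩ := wd_left.1 hg
    have e : x * h * u = x * (h * u) := by simp [mul_assoc]
    rw [e, cj_mul]
    apply cj_mono
    rw [cj_le_iff]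
    have e2 : (h * u)⁻¹ = u⁻¹ * h⁻¹ := by simp
    rw [e2, hA.cj_mul_Q u⁻¹ (H.inv_mem hh), ← hA.cj_mul_Q u⁻¹ hA.x2H]
    exact hk.2 j (Nat.lt_succ_self j) _ (wd_inv hA.x2H hu)

universe u

theorem pkgCR : PkgCR.{u} := by
  intro G _ _ H T Q x hA hZF k hk g hg hgQ
  have hZle : Zs H T ≤ cj g T := by
    refine le_trans (crit_Z_le_gxQ hA hZF hk hg) ?_
    rw [cj_mul]
    apply cj_mono
    calc cj x Q ≤ cj x T := cj_mono hA.hQT x
      _ = T := hA.cjxT
  have hgZle : cj g (Zs H T) ≤ T := by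
    refine le_trans (crit_gZ_le_xQ hA hZF hk hg) ?_
    calc cj x Q ≤ cj x T := cj_mono hA.hQT x
      _ = T := hA.cjxT
  refine ⟨hZle, hgZle, ?_, ?_⟩
  · intro hle
    apply hgQ
    intro a ha
    rw [mem_cj]
    have haT : g⁻¹ * a * g ∈ T := mem_cj.1 (hZle ha)
    apply hZF.cent _ (hA.hTH haT)
    intro b hb
    have hq : g * b * g⁻¹ ∈ Q := hle (conj_mem_cj hb)
    have hc := hZF.comm_Q a ha _ hq
    -- a * (g b g⁻¹) = (g b g⁻¹) * a
    have : g⁻¹ * a * g * b = g⁻¹ * (a * (g * b * g⁻¹)) * g := by simp [mul_assoc]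
    rw [this, hc]
    simp [mul_assoc]
  · exact card_le_two_mul_inf hZle (cj_mono hA.hQT g) (by rw [card_cj, card_cj]; exact hA.hTQ)

end Cfsg.Agent.Lib.Helper69.Sym
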